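import Cfsg.Agent.Lib.Blocks.Bimodule.Orbit
import Cfsg.Agent.Lib.Blocks.EqualDegree.CenterDim

/-!
# Blocks with the least possible sum of squares of degrees

As a bimodule over a Sylow subgroup the block is a single orbit, hence the Sylow subgroup controls
the fusion of the subgroups occurring in the block.
-/

set_option autoImplicit false
set_option linter.unusedSectionVars false
set_option linter.style.haveILetI false

namespace CfsgLib.Blocks.Bimodule

open Cfsg CfsgLib.GrpRing MulAction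
open CyclicDefect (eB)
open scoped ComplexConjugate CfsgLib.Char

variable {G : Type*} [Group G] [Fintype G]

/-- The action of two copies of a subgroup from the two sides. -/
@[reducible] def sideAct (P : Subgroup G) : MulAction (↥P × ↥P) G where
  smul r g := (r.1 : G) * g * (r.2 : G)⁻¹
  one_smul g := show ((1 : P) : G) * g * ((1 : P) : G)⁻¹ = g by simp
  mul_smul r s g := show ((r.1 * s.1 : P) : G) * g * ((r.2 * s.2 : P) : G)⁻¹ =
      (r.1 : G) * ((s.1 : G) * g * (s.2 : G)⁻¹) * (r.2 : G)⁻¹ by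
    rw [Subgroup.coe_mul, Subgroup.coe_mul]; group

variable {p : ℕ} [Fact p.Prime] {k : Type*} [Field k] [CharP k p]

/-- **Control of fusion by a single orbit.** -/
theorem exists_mul_eq {P : Subgroup G} (hP : IsPGroup p P) (E : G → k)
    (hcl : ∀ g h, E (h * g * h⁻¹) = E g)
    (hidem : ∀ g, ∑ y, E y * E (y⁻¹ * g) = E g) {D : Subgroup G} (hDP : D ≤ P)
    {z₀ : G} (hz₀ : z₀ ∈ Subgroup.centralizer (D : Set G)) (hz₀E : E z₀ ≠ 0)
    (hsupp : ∀ z, E z ≠ 0 → ∀ A : Subgroup G, A ≤ P → A ≤ Subgroup.centralizer ({z} : Set G) →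
      Nat.card A ≤ Nat.card D)
    (hrank : Module.finrank k (LinearMap.range (op fun a b : G => E (a * b⁻¹))) * Nat.card D ≤
      Nat.card P * Nat.card P)
    {Q : Subgroup G} (hQP : Q ≤ P) {z : G} (hz : z ∈ Subgroup.centralizer (Q : Set G))
    (hzE : E z ≠ 0) {g : G} (hg : ∀ u ∈ Q, g⁻¹ * u * g ∈ P) :
    ∃ h ∈ P, g * h⁻¹ ∈ Subgroup.centralizer (Q : Set G) := by
  classical
  letI := sideAct P
  have hsm : ∀ (r : ↥P × ↥P) (x : G), r • x = (r.1 : G) * x * (r.2 : G)⁻¹ := fun _ _ => rfl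
  have hR : IsPGroup p (↥P × ↥P) := by
    obtain ⟨n, hn⟩ := IsPGroup.iff_card.mp hP
    exact IsPGroup.iff_card.mpr ⟨n + n, by rw [Nat.card_prod, hn, pow_add]⟩
  obtain ⟨w, hw, hfix⟩ := exists_orbit (k := k) (R := ↥P × ↥P) (fun a b : G => E (a * b⁻¹)) hR
    (fun r a b => by
      simp only [hsm]
      rw [← hcl (a * b⁻¹) (r.1 : G)]
      congr 1
      group)
    (fun a c => by
      rw [← hidem (a * c⁻¹)]
      refine Fintype.sum_equiv ((Equiv.inv G).trans (Equiv.mulLeft a)) _ _ fun b => ?_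
      simp only [Equiv.trans_apply, Equiv.inv_apply, Equiv.coe_mulLeft]
      congr 2
      group)
    ⟨z₀, 1, by simpa using hz₀E⟩ (Nat.card D)
    (fun a b hab hfx => by
      let π : stabilizer (↥P × ↥P) a →* G :=
        P.subtype.comp ((MonoidHom.fst ↥P ↥P).comp (stabilizer (↥P × ↥P) a).subtype)
      have hπ : Function.Injective π := by
        rw [injective_iff_map_eq_one]
        rintro ⟨⟨u, v⟩, hr⟩ h1
        have h1' : (u : G) = 1 := h1
        have h2 : (u : G) * a * (v : G)⁻¹ = a := hr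
        rw [h1', one_mul] at h2
        have h3 : (v : G) = 1 := inv_eq_one.mp (mul_eq_left.mp h2)
        exact Subtype.ext (Prod.ext (Subtype.ext h1') (Subtype.ext h3))
      have hcard : Nat.card (stabilizer (↥P × ↥P) a) = Nat.card π.range :=
        Nat.card_congr (MonoidHom.ofInjective hπ).toEquiv
      rw [hcard]
      refine hsupp _ hab _ ?_ ?_
      · rintro _ ⟨r, rfl⟩
        exact r.1.1.2
      · rintro _ ⟨⟨⟨u, v⟩, hr⟩, rfl⟩
        have h2 : (u : G) * a * (v : G)⁻¹ = a := hr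
        have h3 : (u : G) * b * (v : G)⁻¹ = b := hfx _ hr
        rw [Subgroup.mem_centralizer_singleton_iff]
        show (u : G) * (a * b⁻¹) = a * b⁻¹ * (u : G)
        have e : (u : G) * (a * b⁻¹) * (u : G)⁻¹ = a * b⁻¹ := by
          conv_rhs => rw [← h2, ← h3]
          group
        exact mul_inv_eq_iff_eq_mul.mp e)
    (by rw [Nat.card_prod]; exact hrank)
  -- the twisted diagonals
  have hdiag : ∀ (Q : Subgroup G) (_ : Q ≤ P) (z : G), z ∈ Subgroup.centralizer (Q : Set G) →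
      E z ≠ 0 → ∀ g : G, (∀ u ∈ Q, g⁻¹ * u * g ∈ P) →
      ∃ r : ↥P × ↥P, ∀ u ∈ Q, u * (r • w) = (r • w) * (g⁻¹ * u * g) := by
    intro Q hQP z hz hzE g hg
    let f : Q →* ↥P × ↥P := MonoidHom.prod (Subgroup.inclusion hQP)
      { toFun := fun u => ⟨g⁻¹ * u * g, hg u u.2⟩
        map_one' := Subtype.ext (by simp)
        map_mul' := fun u v => Subtype.ext (by
          show g⁻¹ * ((u : G) * v) * g = g⁻¹ * u * g * (g⁻¹ * v * g)
          group) }
    obtain ⟨r, hr⟩ := hfix (z * g) g (by simpa using hzE) f.range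
      (by
        rintro _ ⟨u, rfl⟩
        show (u : G) * (z * g) * (g⁻¹ * u * g)⁻¹ = z * g
        rw [← mul_assoc (u : G), Subgroup.mem_centralizer_iff.mp hz _ u.2]
        group)
      (by
        rintro _ ⟨u, rfl⟩
        show (u : G) * g * (g⁻¹ * u * g)⁻¹ = g
        group)
    refine ⟨r, fun u hu => ?_⟩
    have h : u * (r • w) * (g⁻¹ * u * g)⁻¹ = r • w := hr _ ⟨⟨u, hu⟩, rfl⟩
    exact mul_inv_eq_iff_eq_mul.mp h
  -- the orbit has a point centralizing `D`
  obtain ⟨r₀, hr₀⟩ := hdiag D hDP z₀ hz₀ hz₀E 1 fun u hu => by simpa using hDP hu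
  simp only [inv_one, one_mul, mul_one] at hr₀
  set w₀ := r₀ • w with hw₀
  have hw₀D : ∀ u ∈ P, w₀⁻¹ * u * w₀ ∈ P → u ∈ D := by
    let A : Subgroup G :=
      { carrier := {u | u ∈ P ∧ w₀⁻¹ * u * w₀ ∈ P}
        one_mem' := ⟨one_mem _, by simp⟩
        mul_mem' := fun {u v} hu hv => ⟨mul_mem hu.1 hv.1, by
          have := mul_mem hu.2 hv.2
          convert this using 1
          group⟩
        inv_mem' := fun {u} hu => ⟨inv_mem hu.1, by
          have := inv_mem hu.2
          convert this using 1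
          group⟩ }
    have hDA : D ≤ A := fun u hu => ⟨hDP hu, by
      rw [mul_assoc, hr₀ u hu, inv_mul_cancel_left]
      exact hDP hu⟩
    have hcard : Nat.card A ≤ Nat.card (stabilizer (↥P × ↥P) w₀) := by
      refine Nat.card_le_card_of_injective
        (fun u => ⟨(⟨u.1, u.2.1⟩, ⟨w₀⁻¹ * u.1 * w₀, u.2.2⟩), ?_⟩) fun u v h => ?_
      · show (u : G) * w₀ * (w₀⁻¹ * u * w₀)⁻¹ = w₀
        group
      · exact Subtype.ext (congrArg (fun r => ((r.1.1 : P) : G)) h)
    rw [hw₀, stabilizer_smul_eq_stabilizer_map_conj,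
      Nat.card_congr ((stabilizer (↥P × ↥P) w).equivMapOfInjective _
        (MulAut.conj r₀).injective).toEquiv.symm, hw] at hcard
    have hAD : D = A := Subgroup.eq_of_le_of_card_ge hDA hcard
    exact fun u hu h => hAD ▸ (⟨hu, h⟩ : u ∈ A)
  obtain ⟨r, hr⟩ := hdiag Q hQP z hz hzE g hg
  set h₁ : G := ((r * r₀⁻¹).1 : G) with hh₁
  set h₂ : G := ((r * r₀⁻¹).2 : G) with hh₂
  have hrw : r • w = h₁ * w₀ * h₂⁻¹ := by
    rw [hh₁, hh₂, ← hsm, hw₀, smul_smul, inv_mul_cancel_right]
  refine ⟨h₁ * h₂⁻¹, mul_mem (r * r₀⁻¹).1.2 (inv_mem (r * r₀⁻¹).2.2),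
    Subgroup.mem_centralizer_iff.mpr fun u hu => ?_⟩
  have hu' : u * (h₁ * w₀ * h₂⁻¹) = h₁ * w₀ * h₂⁻¹ * (g⁻¹ * u * g) := hrw ▸ hr u hu
  have hmem : h₁⁻¹ * u * h₁ ∈ D := by
    refine hw₀D _ (mul_mem (mul_mem (inv_mem (r * r₀⁻¹).1.2) (hQP hu)) (r * r₀⁻¹).1.2) ?_
    have e : w₀⁻¹ * (h₁⁻¹ * u * h₁) * w₀ = h₂⁻¹ * (g⁻¹ * u * g) * h₂ :=
      calc w₀⁻¹ * (h₁⁻¹ * u * h₁) * w₀
          = w₀⁻¹ * h₁⁻¹ * (u * (h₁ * w₀ * h₂⁻¹)) * h₂ := by group
        _ = _ := by rw [hu']; group
    rw [e]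
    exact mul_mem (mul_mem (inv_mem (r * r₀⁻¹).2.2) (hg u hu)) (r * r₀⁻¹).2.2
  have e1 := hr₀ _ hmem
  have e2 : g⁻¹ * u * g = h₂ * (h₁⁻¹ * u * h₁) * h₂⁻¹ :=
    calc g⁻¹ * u * g = h₂ * w₀⁻¹ * h₁⁻¹ * (h₁ * w₀ * h₂⁻¹ * (g⁻¹ * u * g)) := by group
      _ = h₂ * w₀⁻¹ * ((h₁⁻¹ * u * h₁) * w₀) * h₂⁻¹ := by rw [← hu']; group
      _ = _ := by rw [e1]; group
  calc u * (g * (h₁ * h₂⁻¹)⁻¹) = g * (g⁻¹ * u * g) * (h₂ * h₁⁻¹) := by group
    _ = g * (h₁ * h₂⁻¹)⁻¹ * u := by rw [e2]; group

variable {M : Ideal AlgInt} [M.IsPrime] {B : Set (IrrCharacter G)}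

open Classical in
/-- The operator of the idempotent has rank at most the sum of the squares of the degrees. -/
theorem finrank_range_le (hB : IsPBlock M B) :
    Module.finrank (ResField M)
        (LinearMap.range (op fun a b : G => res M (blockCoeff B (a * b⁻¹)))) ≤
      ∑ χ : IrrCharacter G with χ ∈ B, charDegree (χ : G → ℂ) ^ 2 := by
  classical
  set T := op fun a b : G => res M (blockCoeff B (a * b⁻¹)) with hT
  set L := op fun a b : G => blockCoeff B (a * b⁻¹) with hL
  have hl := IsPBlock.memLocalRing_blockCoeff hB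
  -- lifts
  let b := Module.finBasis (ResField M) (LinearMap.range T)
  choose f hf using fun i => (b i).2
  choose sect hsect using fun x : ResField M => Ideal.Quotient.mk_surjective (I := locIdeal M) x
  let A : Fin (Module.finrank (ResField M) (LinearMap.range T)) → G → ℂ :=
    fun i g => (sect (f i g) : ℂ)
  have hw : ∀ i a, MemLocalRing M (L (A i) a) := fun i a => by
    rw [hL, op_apply]
    exact memLocalRing_sum _ _ fun y _ => memLocalRing_mul (hl _) (sect _).2
  have hwr : ∀ i a, res M (L (A i) a) = (b i).1 a := fun i a => by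
    rw [hL, op_apply, res_sum _ (fun c => blockCoeff B (a * c⁻¹) * A i c) fun y _ =>
      memLocalRing_mul (hl _) (sect _).2, ← hf i, hT, op_apply]
    refine Finset.sum_congr rfl fun y _ => ?_
    rw [res_mul (hl _) (sect _).2, res_coe, hsect]
  have hli : LinearIndependent ℂ fun i => L (A i) := by
    refine EqualDegree.indep_lift_loc _ (fun i a => hw i a) ?_
    simp only [hwr]
    exact b.linearIndependent.map' (Submodule.subtype _) (Submodule.ker_subtype _)
  have h1 : Module.finrank (ResField M) (LinearMap.range T) ≤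
      Module.finrank ℂ (LinearMap.range L) := by
    have h := finrank_span_eq_card hli
    rw [Fintype.card_fin] at h
    rw [← h]
    refine Submodule.finrank_mono (Submodule.span_le.mpr ?_)
    rintro _ ⟨i, rfl⟩
    exact LinearMap.mem_range_self _ _
  refine h1.trans (le_of_eq ?_)
  -- the rank is the trace
  have hidem : IsIdempotentElem L := LinearMap.ext fun v => funext fun a => by
    show L (L v) a = L v a
    simp only [hL, op_apply, Finset.mul_sum]
    rw [Finset.sum_comm]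
    refine Finset.sum_congr rfl fun c _ => ?_
    conv_rhs => rw [← conv_blockCoeff_self B, conv, Finset.sum_mul]
    refine Fintype.sum_equiv ((Equiv.inv G).trans (Equiv.mulLeft a)) _ _ fun y => ?_
    simp only [Equiv.trans_apply, Equiv.inv_apply, Equiv.coe_mulLeft, mul_inv_rev, inv_inv]
    rw [show y * a⁻¹ * (a * c⁻¹) = y * c⁻¹ by group]
    ring
  have hproj : LinearMap.IsProj (LinearMap.range L) L :=
    ⟨fun v => LinearMap.mem_range_self L v, fun v ⟨u, hu⟩ => by
      rw [← hu, ← Module.End.mul_apply, hidem.eq]⟩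
  have h2 := hproj.trace
  rw [hL, show op (fun a b : G => blockCoeff B (a * b⁻¹)) =
      Matrix.toLin' (Matrix.of fun a b : G => blockCoeff B (a * b⁻¹)) from rfl,
    Matrix.trace_toLin'_eq] at h2
  simp only [Matrix.trace, Matrix.diag, Matrix.of_apply, mul_inv_cancel, Finset.sum_const,
    Finset.card_univ, nsmul_eq_mul, blockCoeff, sum_mem_eq_filter] at h2
  rw [← Nat.card_eq_fintype_card, ← mul_assoc,
    mul_inv_cancel₀ (Nat.cast_ne_zero.mpr Nat.card_pos.ne'), one_mul] at h2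
  refine Nat.cast_injective (R := ℂ) ?_
  rw [hL]
  refine h2.symm.trans ?_
  push_cast
  exact Finset.sum_congr rfl fun χ _ => by rw [(irr_degree_eq χ).1, map_natCast, sq]

end CfsgLib.Blocks.Bimodule
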