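import Mathlib.GroupTheory.PGroup
import Mathlib.Algebra.CharP.Algebra
import Mathlib.Algebra.Algebra.ZMod
import Mathlib.FieldTheory.Finiteness
import Mathlib.LinearAlgebra.Matrix.ToLin
import Mathlib.LinearAlgebra.FiniteDimensional.Lemmas
import Mathlib.LinearAlgebra.Dimension.Constructions
import Mathlib.Algebra.Field.ZMod

/-!
# Idempotent operators on functions on a set with an action of a `p`-group

If the image is small compared with the stabilizers that occur in the kernel of the operator,
the image is carried by one orbit.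
-/

set_option autoImplicit false
set_option linter.style.haveILetI false

namespace CfsgLib.Blocks.Bimodule

open MulAction Finset

variable {p : ℕ} [Fact p.Prime] {k : Type*} [Field k] [CharP k p]
  {R α : Type*} [Group R] [Finite R] [MulAction R α] [Fintype α]

/-- The translate of a function. -/
def tr (r : R) (f : α → k) : α → k := fun a => f (r⁻¹ • a)

/-- A nonzero invariant function in every invariant subspace containing a given nonzero one. -/
theorem exists_invariant (hR : IsPGroup p R) {f : α → k} (hf : f ≠ 0)
    {V : Submodule k (α → k)} (hfV : f ∈ V) (hV : ∀ r : R, ∀ g ∈ V, tr r g ∈ V) :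
    ∃ g ∈ V, g ≠ 0 ∧ ∀ r : R, tr r g = g := by
  classical
  letI : Algebra (ZMod p) k := ZMod.algebra k p
  let W : Submodule (ZMod p) (α → k) := Submodule.span (ZMod p) (Set.range fun r : R => tr r f)
  haveI : Module.Finite (ZMod p) W :=
    Module.Finite.span_of_finite (ZMod p) (Set.finite_range fun r : R => tr r f)
  haveI : Finite W := Module.finite_of_finite (ZMod p)
  have hW : ∀ r : R, ∀ g ∈ W, tr r g ∈ W := fun r g hg => by
    let L : (α → k) →ₗ[ZMod p] (α → k) :=
      { toFun := tr r, map_add' := fun _ _ => rfl, map_smul' := fun _ _ => rfl }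
    refine (Submodule.map_le_iff_le_comap (f := L) (p := W) (q := W)).mp ?_ hg
    rw [Submodule.map_span, Submodule.span_le]
    rintro _ ⟨_, ⟨s, rfl⟩, rfl⟩
    exact Submodule.subset_span ⟨r * s, funext fun a => by
      show f ((r * s)⁻¹ • a) = f (s⁻¹ • r⁻¹ • a)
      rw [mul_inv_rev, mul_smul]⟩
  letI : MulAction R W :=
    { smul := fun r g => ⟨tr r g.1, hW r g.1 g.2⟩
      one_smul := fun g => Subtype.ext (funext fun a => show g.1 ((1 : R)⁻¹ • a) = g.1 a by simp)
      mul_smul := fun r s g => Subtype.ext (funext fun a =>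
        show g.1 ((r * s)⁻¹ • a) = g.1 (s⁻¹ • r⁻¹ • a) by simp [mul_smul]) }
  have hf' : f ∈ W := Submodule.subset_span ⟨1, funext fun a => by simp [tr]⟩
  haveI : Nontrivial W := ⟨⟨f, hf'⟩, 0, fun h => hf (congrArg Subtype.val h)⟩
  haveI := Fintype.ofFinite W
  have hcard : p ∣ Nat.card W := by
    rw [Module.natCard_eq_pow_finrank (K := ZMod p), Nat.card_zmod]
    exact dvd_pow_self p (Module.finrank_pos (R := ZMod p) (M := W)).ne'
  obtain ⟨g, hg, hne⟩ := hR.exists_fixed_point_of_prime_dvd_card_of_fixed_point (α := W) hcard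
    (a := 0) (fun r => Subtype.ext (funext fun a => rfl))
  refine ⟨g.1, ?_, fun h => hne (Subtype.ext h.symm), fun r => congrArg Subtype.val (hg r)⟩
  have hle : W ≤ V.restrictScalars (ZMod p) := by
    rw [Submodule.span_le]
    rintro _ ⟨r, rfl⟩
    exact hV r f hfV
  exact hle g.2

/-- An invariant sum is the sum over the fixed points. -/
theorem sum_fixed [DecidableEq α] {U : Subgroup R} (hR : IsPGroup p R) {f : α → k}
    (hinv : ∀ u ∈ U, ∀ a, f (u • a) = f a) (h : ∀ a, f a ≠ 0 → ¬ ∀ u ∈ U, u • a = a) :
    ∑ a, f a = 0 := by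
  classical
  haveI : Fintype (Quotient (orbitRel U α)) := Fintype.ofFinite _
  rw [← Finset.sum_fiberwise Finset.univ (Quotient.mk (orbitRel U α))]
  refine Finset.sum_eq_zero fun ω _ => ?_
  induction ω using Quotient.inductionOn with
  | h a =>
    set s : Finset α :=
      {b | Quotient.mk (orbitRel U α) b = Quotient.mk (orbitRel U α) a} with hs
    have hmem : ∀ b, b ∈ s ↔ b ∈ orbit U a := fun b => by
      rw [hs, Finset.mem_filter, Quotient.eq, orbitRel_apply]
      exact and_iff_right (Finset.mem_univ b)
    have hconst : ∀ b ∈ s, f b = f a := fun b hb => by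
      obtain ⟨u, rfl⟩ := (hmem b).mp hb
      exact hinv u.1 u.2 a
    show ∑ b ∈ s, f b = 0
    rw [Finset.sum_congr rfl hconst, Finset.sum_const, nsmul_eq_mul]
    by_cases ha : f a = 0
    · rw [ha, mul_zero]
    · obtain ⟨n, hn⟩ := (hR.to_subgroup U).card_orbit a
      have hcard : s.card = Nat.card (orbit U a) := by
        rw [← Nat.card_eq_finsetCard s]
        exact Nat.card_congr (Equiv.subtypeEquivRight hmem)
      rcases n with - | n
      · rw [pow_zero] at hn
        have hsub : Subsingleton (orbit U a) := (Nat.card_eq_one_iff_unique.mp hn).1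
        refine absurd (fun u hu => ?_) (h a ha)
        exact congrArg Subtype.val (Subsingleton.elim
          (⟨(⟨u, hu⟩ : U) • a, mem_orbit a _⟩ : orbit U a) ⟨a, mem_orbit_self a⟩)
      · rw [hcard, hn, Nat.cast_pow, CharP.cast_eq_zero k p, zero_pow n.succ_ne_zero, zero_mul]

variable (K : α → α → k)

/-- The operator with a given kernel. -/
def op : (α → k) →ₗ[k] (α → k) := Matrix.mulVecLin (Matrix.of K)

theorem op_apply (f : α → k) (a : α) : op K f a = ∑ b, K a b * f b := rfl

/-- **One orbit carries the image.** -/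
theorem exists_orbit (hR : IsPGroup p R) (hK : ∀ (r : R) (a b : α), K (r • a) (r • b) = K a b)
    (hidem : ∀ a c, ∑ b, K a b * K b c = K a c) (hne : ∃ a b, K a b ≠ 0) (q : ℕ)
    (hstab : ∀ a b, K a b ≠ 0 → (∀ r ∈ stabilizer R a, r • b = b) →
      Nat.card (stabilizer R a) ≤ q)
    (hrank : Module.finrank k (LinearMap.range (op K)) * q ≤ Nat.card R) :
    ∃ w : α, Nat.card (stabilizer R w) = q ∧
      ∀ a b, K a b ≠ 0 → ∀ U : Subgroup R, (∀ u ∈ U, u • a = a) → (∀ u ∈ U, u • b = b) →
        ∃ r : R, ∀ u ∈ U, u • r • w = r • w := by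
  classical
  have hop : ∀ f, op K (op K f) = op K f := fun f => funext fun a => by
    simp only [op_apply, Finset.mul_sum]
    rw [Finset.sum_comm]
    refine Finset.sum_congr rfl fun c _ => ?_
    rw [← hidem a c, Finset.sum_mul]
    exact Finset.sum_congr rfl fun b _ => by ring
  have htr : ∀ (r : R) f, tr r (op K f) = op K (tr r f) := fun r f => funext fun a => by
    simp only [tr, op_apply]
    refine Fintype.sum_equiv (MulAction.toPerm r) _ _ fun b => ?_
    simp only [MulAction.toPerm_apply, inv_smul_smul]
    rw [← hK r (r⁻¹ • a) b, smul_inv_smul]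
  obtain ⟨a₀, b₀, hab⟩ := hne
  -- an invariant vector of the image
  obtain ⟨x, hxV, hx0, hxinv⟩ := exists_invariant hR (V := LinearMap.range (op K))
    (f := op K (Pi.single b₀ 1))
    (fun h => hab (by simpa [op_apply, Pi.single_apply] using congrFun h a₀))
    (LinearMap.mem_range_self _ _) (by
      rintro r _ ⟨f, rfl⟩
      exact ⟨tr r f, (htr r f).symm⟩)
  have hxop : op K x = x := by
    obtain ⟨f, rfl⟩ := hxV
    exact hop f
  have hxc : ∀ (r : R) a, x (r • a) = x a := fun r a => by
    conv_rhs => rw [← hxinv r⁻¹]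
    simp [tr]
  -- an orbit on whose sum the operator does not vanish
  let ind : α → α → k := fun w a => if a ∈ orbit R w then 1 else 0
  obtain ⟨w, hxw, hw⟩ : ∃ w, x w ≠ 0 ∧ op K (ind w) ≠ 0 := by
    by_contra h
    push Not at h
    refine hx0 (funext fun a => ?_)
    haveI : Fintype (Quotient (orbitRel R α)) := Fintype.ofFinite _
    rw [← hxop, op_apply, ← Finset.sum_fiberwise Finset.univ (Quotient.mk (orbitRel R α))]
    refine Finset.sum_eq_zero fun ω _ => ?_
    induction ω using Quotient.inductionOn with
    | h w =>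
      rw [Finset.sum_congr rfl (g := fun b => x w * K a b) fun b hb => by
        have hb' : b ∈ orbit R w :=
          orbitRel_apply.mp (Quotient.eq.mp (Finset.mem_filter.mp hb).2)
        obtain ⟨r, rfl⟩ := hb'
        rw [hxc, mul_comm], ← Finset.mul_sum]
      by_cases hw : x w = 0
      · rw [hw, zero_mul]
      · have h1 := congrFun (h w hw) a
        rw [op_apply, Pi.zero_apply] at h1
        have h2 : ∑ b with Quotient.mk (orbitRel R α) b = Quotient.mk (orbitRel R α) w, K a b = 0 := by
          rw [← h1, Finset.sum_filter]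
          refine Finset.sum_congr rfl fun b _ => ?_
          simp only [ind, mul_ite, mul_one, mul_zero]
          exact if_congr (by rw [Quotient.eq]; exact orbitRel_apply) rfl rfl
        rw [h2, mul_zero]
  -- its stabilizer is small
  have hle : Nat.card (stabilizer R w) ≤ q := by
    by_contra hlt
    refine hxw ?_
    rw [← hxop, op_apply]
    refine sum_fixed (U := stabilizer R w) hR (fun u hu b => ?_) fun b hb hfix => ?_
    · rw [hxc]
      congr 1
      conv_rhs => rw [← hK u w b, mem_stabilizer_iff.mp hu]
    · exact hlt (hstab w b (left_ne_zero_of_mul hb) hfix)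
  -- the operator is injective on functions carried by the orbit
  let V : Submodule k (α → k) :=
    { carrier := {f | ∀ a, a ∉ orbit R w → f a = 0}
      zero_mem' := fun _ _ => rfl
      add_mem' := fun {f g} hf hg a ha => by rw [Pi.add_apply, hf a ha, hg a ha, add_zero]
      smul_mem' := fun c f hf a ha => by rw [Pi.smul_apply, hf a ha, smul_zero] }
  have hinj : ∀ f ∈ V, op K f = 0 → f = 0 := by
    intro f hfV hf0
    by_contra hne
    obtain ⟨g, ⟨hgV, hg0⟩, hgne, hginv⟩ := exists_invariant hR (V := V ⊓ LinearMap.ker (op K))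
      hne ⟨hfV, hf0⟩ (by
        rintro r g ⟨hg, hg'⟩
        refine ⟨fun a ha => hg _ fun h => ha ?_, ?_⟩
        · obtain ⟨s, hs⟩ := h
          exact ⟨r * s, show (r * s) • w = a by rw [mul_smul, show s • w = r⁻¹ • a from hs,
            smul_inv_smul]⟩
        · show op K (tr r g) = 0
          rw [← htr, show op K g = 0 from hg']
          rfl)
    have hgc : g = g w • ind w := funext fun a => by
      by_cases ha : a ∈ orbit R w
      · obtain ⟨r, rfl⟩ := ha
        simp only [Pi.smul_apply, ind, if_pos (mem_orbit w r), smul_eq_mul, mul_one]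
        conv_lhs => rw [← hginv r]
        simp [tr]
      · simp only [Pi.smul_apply, ind, if_neg ha, smul_zero]
        exact hgV a ha
    have hgw : g w ≠ 0 := fun h => hgne (by rw [hgc, h, zero_smul])
    have : g w • op K (ind w) = 0 := by
      rw [← map_smul, ← hgc]
      exact hg0
    exact hw ((smul_eq_zero.mp this).resolve_left hgw)
  have hV : Module.finrank k V = Nat.card (orbit R w) := by
    haveI := Fintype.ofFinite (orbit R w)
    let e : V ≃ₗ[k] (orbit R w → k) :=
      { toFun := fun f a => f.1 a
        map_add' := fun _ _ => rfl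
        map_smul' := fun _ _ => rfl
        invFun := fun f => ⟨fun a => if h : a ∈ orbit R w then f ⟨a, h⟩ else 0,
          fun a ha => dif_neg ha⟩
        left_inv := fun f => Subtype.ext (funext fun a => by
          by_cases ha : a ∈ orbit R w
          · simp [ha]
          · simp [ha, f.2 a ha])
        right_inv := fun f => funext fun a => by simp }
    rw [e.finrank_eq, Module.finrank_pi, Nat.card_eq_fintype_card]
  let F : V →ₗ[k] LinearMap.range (op K) :=
    ((op K).comp V.subtype).codRestrict _ fun f => LinearMap.mem_range_self _ _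
  have hF : Function.Injective F := by
    rw [← LinearMap.ker_eq_bot, LinearMap.ker_eq_bot']
    exact fun f hf => Subtype.ext (hinj f.1 f.2 (congrArg Subtype.val hf))
  have h1 := LinearMap.finrank_le_finrank_of_injective hF
  have h2 : Nat.card (orbit R w) * Nat.card (stabilizer R w) = Nat.card R := by
    rw [← Nat.card_prod]
    exact Nat.card_congr (orbitProdStabilizerEquivGroup R w)
  have hpos : 0 < Nat.card (orbit R w) := by
    haveI : Nonempty (orbit R w) := ⟨⟨w, mem_orbit_self w⟩⟩
    exact Nat.card_pos
  have h3 : Module.finrank k (LinearMap.range (op K)) * q ≤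
      Nat.card (orbit R w) * Nat.card (stabilizer R w) := h2 ▸ hrank
  rw [hV] at h1
  have hq : Nat.card (stabilizer R w) = q := by
    refine le_antisymm hle (Nat.le_of_mul_le_mul_left ?_ hpos)
    exact (Nat.mul_le_mul_right q h1).trans h3
  have hfin : Module.finrank k V = Module.finrank k (LinearMap.range (op K)) := by
    refine le_antisymm (hV ▸ h1) ?_
    rw [hV]
    have hq0 : 0 < q := hq ▸ Nat.card_pos
    exact Nat.le_of_mul_le_mul_right (hq ▸ h3) hq0
  have hsurj : Function.Surjective F :=
    (LinearMap.injective_iff_surjective_of_finrank_eq_finrank hfin).mp hF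
  refine ⟨w, hq, fun a b hK0 U hUa hUb => ?_⟩
  obtain ⟨⟨y, hyV⟩, hy⟩ := hsurj ⟨op K (Pi.single b 1), LinearMap.mem_range_self _ _⟩
  have hy' : op K y = op K (Pi.single b 1) := congrArg Subtype.val hy
  have hyinv : ∀ u ∈ U, tr u y = y := fun u hu => by
    rw [← sub_eq_zero]
    refine hinj _ (fun c hc => ?_) ?_
    · rw [Pi.sub_apply, hyV c hc, sub_zero]
      exact hyV _ fun h => hc (by
        obtain ⟨s, hs⟩ := h
        exact ⟨u * s, show (u * s) • w = c by rw [mul_smul, show s • w = u⁻¹ • c from hs,
          smul_inv_smul]⟩)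
    · rw [map_sub, ← htr, hy', htr, sub_eq_zero]
      congr 1
      funext c
      simp only [tr, Pi.single_apply]
      exact if_congr ⟨fun h => by rw [← hUb u hu, ← h, smul_inv_smul],
        fun h => by rw [h, inv_smul_eq_iff, hUb u hu]⟩ rfl rfl
  by_contra hno
  push Not at hno
  refine hK0 ?_
  have : op K y a = K a b := by rw [hy', op_apply]; simp [Pi.single_apply]
  rw [← this, op_apply]
  refine sum_fixed (U := U) hR (fun u hu c => ?_) fun c hc hfix => ?_
  · congr 1
    · conv_rhs => rw [← hK u a c, hUa u hu]
    · conv_rhs => rw [← hyinv u⁻¹ (inv_mem hu)]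
      simp [tr]
  · have hc' : c ∈ orbit R w := by_contra fun h => right_ne_zero_of_mul hc (hyV c h)
    obtain ⟨r, rfl⟩ := hc'
    obtain ⟨u, hu, hne'⟩ := hno r
    exact hne' (hfix u hu)

end CfsgLib.Blocks.Bimodule
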